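import Cfsg.Agent.Spor.U43aN1.D0

set_option autoImplicit false
set_option maxRecDepth 100000000
set_option Elab.async false

namespace Cfsg.Agent.Spor.U43aN1

theorem ok0 : Net.okb 1 n0 = true := by decide +kernel

theorem ok1 : Net.okb 1 n1 = true := by decide +kernel

theorem ok2 : Net.okb 1 n2 = true := by decide +kernel

theorem ok3 : Net.okb 1 n3 = true := by decide +kernel

theorem ok4 : Net.okb 1 n4 = true := by decide +kernel

theorem ok5 : Net.okb 1 n5 = true := by decide +kernel

theorem rel0 : T.rel 1 [1, 1] 0 1 = true := by decide +kernel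

theorem rel1 : T.rel 1 [2, 2] 0 1 = true := by decide +kernel

theorem rel2 : T.rel 1 [3, 3] 0 1 = true := by decide +kernel

theorem rel3 : T.rel 1 [4, 4] 0 1 = true := by decide +kernel

theorem rel4 : T.rel 1 [5, 5] 0 1 = true := by decide +kernel

theorem rel5 : T.rel 1 [6, 6] 0 1 = true := by decide +kernel

theorem rel6 : T.rel 1 [2, 3, 4, 3, 2, 3, 4, 5, 3, 5] 0 1 = true := by decide +kernel

theorem rel7 : T.rel 1 [3, 4, 3, 4, 3, 4] 0 1 = true := by decide +kernel

theorem rel8 : T.rel 1 [2, 3, 4, 3, 2, 4, 5, 3, 5, 4] 0 1 = true := by decide +kernel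

theorem rel9 : T.rel 1 [2, 3, 5, 3, 4, 2, 5, 2, 4, 5] 0 1 = true := by decide +kernel

theorem rel10 : T.rel 1 [2, 4, 5, 2, 4, 5, 4, 2, 5, 4] 0 1 = true := by decide +kernel

theorem rel11 : T.rel 1 [2, 3, 2, 5, 2, 4, 3, 2, 5, 4, 5, 3, 4, 5] 0 1 = true := by decide +kernel

theorem rel12 : T.rel 1 [1, 3, 5, 3, 5] 0 1 = true := by decide +kernel

theorem rel13 : T.rel 1 [1, 2, 1, 2] 0 1 = true := by decide +kernel

theorem rel14 : T.rel 1 [1, 4, 1, 4] 0 1 = true := by decide +kernel

theorem rel15 : T.rel 1 [2, 5, 2, 5, 2, 5] 0 1 = true := by decide +kernel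

theorem rel16 : T.rel 1 [1, 5, 1, 5] 0 1 = true := by decide +kernel

theorem rel17 : T.rel 1 [1, 3, 1, 3] 0 1 = true := by decide +kernel

theorem rel18 : T.rel 1 [2, 6, 2, 6, 2, 6] 0 1 = true := by decide +kernel

theorem rel19 : T.rel 1 [5, 6, 5, 6, 5, 6] 0 1 = true := by decide +kernel

theorem rel20 : T.rel 1 [4, 6, 4, 6, 4, 6] 0 1 = true := by decide +kernel

theorem rel21 : T.rel 1 [3, 6, 3, 6, 3, 6] 0 1 = true := by decide +kernel

theorem rel22 : T.rel 1 [3, 5, 6, 1, 6, 1, 6, 3, 5] 0 1 = true := by decide +kernel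

theorem rel23 : T.rel 1 [2, 3, 2, 3, 2, 3, 2, 3] 0 1 = true := by decide +kernel

theorem rel24 : T.rel 1 [5, 2, 6, 4, 2, 6, 1, 6, 4, 2, 6, 4, 5, 1] 0 1 = true := by decide +kernel

theorem rel25 : T.rel 1 [6, 1, 3, 4, 6, 3, 4, 1, 6, 2, 4, 5, 2, 3, 2] 0 1 = true := by decide +kernel

theorem rel26 : T.rel 1 [6, 1, 2, 5, 6, 2, 5, 1, 6, 4, 3, 5, 2, 4, 3] 0 1 = true := by decide +kernel

theorem rel27 : T.rel 1 [1] 0 1 = true := by decide +kernel

theorem hcov : T.treeCov (ones 1) L 1 = true := by decide +kernel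

theorem hg : lall (fun z => band (memL L z) (band (sub (ones 1) (T.let z).cl) (T.closed (ones 1) z))) gs = true := by decide +kernel

theorem hivk : ivOk (2 * 6) EX IV = true := by decide +kernel

theorem hrt : RT.ok (2 * 6) EX RL = true := by decide +kernel

theorem hdefs : defs F 65 = true := by decide +kernel

noncomputable def st0_l : List Nat := [nat_lit 0x1, nat_lit 0x80020c02, nat_lit 0x20004280000c03, nat_lit 0x40004380001403, nat_lit 0x60004380001c03, nat_lit 0x80004380002403, nat_lit 0x1c000040004380002404, nat_lit 0x7801, nat_lit 0x4800007802, nat_lit 0x280010c0000b00049000028000120008e0000700001009, nat_lit 0x4a00002802, nat_lit 0x7000010000960000480007405, nat_lit 0x600000c000960000380006405, nat_lit 0x4000008000960000280004405, nat_lit 0x9801, nat_lit 0x4f00009802, nat_lit 0x270000200008800008800280000200000f0004780002009, nat_lit 0x8000a20004e80028c04, nat_lit 0xc0005280000803, nat_lit 0x5200001002, nat_lit 0xe0005280002403, nat_lit 0x5300008402, nat_lit 0x5300008c02, nat_lit 0x5300009402, nat_lit 0x5500023c02,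 nat_lit 0xa00002400006000048002cc0001000007000098000a409, nat_lit 0xa800052000b5000140000ac05, nat_lit 0x58000140004580005c04, nat_lit 0xb801, nat_lit 0x5d0000b802, nat_lit 0x6000114000190005e0000600002e000b80001600005009, nat_lit 0x17c0009a0005f80001804, nat_lit 0x120006080000803, nat_lit 0x6000001802, nat_lit 0x28000618002b403, nat_lit 0x2a000618002bc03, nat_lit 0xc60005a80031c03, nat_lit 0xc80005b80032403, nat_lit 0xc00003400008000010002c405, nat_lit 0xc801, nat_lit 0x680000c802, nat_lit 0x70001180001d0006900007000010000a9000048002cc09, nat_lit 0x1a8000980006a80002004, nat_lit 0x1a0006b80000803, nat_lit 0x6b00002002, nat_lit 0x300006c8002c403, nat_lit 0x6e00033c02, nat_lit 0xd000158000030006d80031400152000db0006280036c00004000ad000658000d40d, nat_lit 0xe00001a0002b00000600097000438002a40018a00097000548003140010e00097000010002bc0f, nat_lit 0x710000d002, nat_lit 0xe20007080038c03, nat_lit 0x580002b4001c8000e70005700000c001b600002000578003340a, nat_lit 0x1d0000de0007480039404, nat_lit 0x7500039402, nat_lit 0x1d4000cc000758002b004,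 nat_lit 0x4000ee000768003bc04, nat_lit 0x18003c402, nat_lit 0x36000428000dc03, nat_lit 0x380007a8000e403, nat_lit 0x3a0007a8000ec03, nat_lit 0x3c0007a8000f403, nat_lit 0x98000fb0001e0000d804, nat_lit 0x14001, nat_lit 0x7f00014002, nat_lit 0xf8001e80003f000800000f80007a0004d0007e8000dc09, nat_lit 0x810000f802, nat_lit 0x11000070001040001c80011405, nat_lit 0x13800078001040001e80013c05, nat_lit 0x12800074001040001d80012c05, nat_lit 0xa8000400007b80010c04, nat_lit 0x15801, nat_lit 0x8700015802, nat_lit 0x110001ec0004500088000110000860010c0002a00010009, nat_lit 0x22400106000898000e004, nat_lit 0x8a0000e002, nat_lit 0x400008a8000d803, nat_lit 0x8c00014c02, nat_lit 0x1600008c0003a0001b00046c05, nat_lit 0xb4000460007c80012404, nat_lit 0x17001, nat_lit 0x9000017002, nat_lit 0x128001f00004b00091000128000920011e0002d00011809, nat_lit 0x2480010a000928000e804, nat_lit 0x46000938000d803, nat_lit 0x930000e802, nat_lit 0x580009480046c03, nat_lit 0x9600047402, nat_lit 0x17801, nat_lit 0x9800017802, nat_lit 0x138001f40004f0009900013800078000360007e00013009,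 nat_lit 0x268001080009a8000f004, nat_lit 0x4c0009b8000d803, nat_lit 0x9b0000f002, nat_lit 0x9c0003f402, nat_lit 0x12e0008d0003c8002780003700095000410001e80013a0008b00041000274001170007a8004140f, nat_lit 0x27c0012e0009f8000d804, nat_lit 0x1b80050402, nat_lit 0x600004280018403, nat_lit 0x62000a280018c03, nat_lit 0x188000c0001430003080018c05, nat_lit 0xd000062000a280019404, nat_lit 0x1b001, nat_lit 0xa60001b002, nat_lit 0x1980028800067000a7000198000ca0014a0003400018809, nat_lit 0xa800019802, nat_lit 0x1a8000c400152000318001ac05, nat_lit 0x1b801, nat_lit 0xab0001b802, nat_lit 0x550000d40014600035800560000d400069000a580019009, nat_lit 0xc40015a000aa80056c04, nat_lit 0x2b800148000ae80018004, nat_lit 0x3080057c02, nat_lit 0x70000428001c403, nat_lit 0xe000143000428001c404, nat_lit 0x72000b18001cc03, nat_lit 0x1c8000e0000f3000388001cc05, nat_lit 0xec00167000b48001dc04, nat_lit 0x1e801, nat_lit 0xb60001e802, nat_lit 0x1d0002c400075000b70001d0000e0001430003880059409, nat_lit 0xb80001d002, nat_lit 0x1e0000e400172000398001e405,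 nat_lit 0x1f001, nat_lit 0xbb0001f002, nat_lit 0x1e0002cc00079000bc0001e0002d200077000b58001d809, nat_lit 0x2f400174000bd8001c804, nat_lit 0x2f800168000be8001c004, nat_lit 0x388005fc02, nat_lit 0x20001, nat_lit 0xc100020002, nat_lit 0x1f8001080007f000c20001f80030200143000c080050c09, nat_lit 0x3f80061c02]
theorem st0 : band (steps F IV RT base st0_l 65) (Nat.beq (Nat.add 65 (llen st0_l)) 197) = true := by decide +kernel

theorem ep0a : T.treePath [] (Nat.shiftLeft 1 0) 1 = true := by decide +kernel

theorem ep0b : T.treePath [] (Nat.shiftLeft 1 0) 1 = true := by decide +kernel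

theorem ep0c : band (lall (fun z => Nat.ble z 255) ([] ++ 1 :: [])) (concl F IV 197 0x21001 (encA ([] ++ 1 :: []) 0)) = true := by decide +kernel

theorem ep0d : band (Rule.ok (2 * 6) EX [] ⟨lapp [] [], [], 0, false⟩) (band (lall (memL L) []) (lall (memL L) [])) = true := by decide +kernel

theorem cov1 : T.cover 1 [(Nat.shiftLeft 1 0)] = true := by decide +kernel

theorem tl1 : Nat.beq (T.let 1).tt 0 = true := by decide +kernel

theorem ep1a : T.treePath [] (Nat.shiftLeft 1 0) 1 = true := by decide +kernel

theorem ep1b : T.treePath [] (Nat.shiftLeft 1 0) 1 = true := by decide +kernel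

theorem ep1c : band (lall (fun z => Nat.ble z 255) ([] ++ 2 :: [])) (concl F IV 197 0x3c801 (encA ([] ++ 2 :: []) 0)) = true := by decide +kernel

theorem ep1d : band (Rule.ok (2 * 6) EX [] ⟨lapp [] [], [], 0, false⟩) (band (lall (memL L) []) (lall (memL L) [])) = true := by decide +kernel

theorem cov2 : T.cover 2 [(Nat.shiftLeft 1 0)] = true := by decide +kernel

theorem tl2 : Nat.beq (T.let 2).tt 0 = true := by decide +kernel

theorem ep2a : T.treePath [] (Nat.shiftLeft 1 0) 1 = true := by decide +kernel

theorem ep2b : T.treePath [] (Nat.shiftLeft 1 0) 1 = true := by decide +kernel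

theorem ep2c : band (lall (fun z => Nat.ble z 255) ([] ++ 3 :: [])) (concl F IV 197 0x50801 (encA ([] ++ 3 :: []) 0)) = true := by decide +kernel

theorem ep2d : band (Rule.ok (2 * 6) EX [] ⟨lapp [] [], [], 0, false⟩) (band (lall (memL L) []) (lall (memL L) [])) = true := by decide +kernel

theorem cov3 : T.cover 3 [(Nat.shiftLeft 1 0)] = true := by decide +kernel

theorem tl3 : Nat.beq (T.let 3).tt 0 = true := by decide +kernel

theorem ep3a : T.treePath [] (Nat.shiftLeft 1 0) 1 = true := by decide +kernel

theorem ep3b : T.treePath [] (Nat.shiftLeft 1 0) 1 = true := by decide +kernel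

theorem ep3c : band (lall (fun z => Nat.ble z 255) ([] ++ 4 :: [])) (concl F IV 197 0x58001 (encA ([] ++ 4 :: []) 0)) = true := by decide +kernel

theorem ep3d : band (Rule.ok (2 * 6) EX [] ⟨lapp [] [], [], 0, false⟩) (band (lall (memL L) []) (lall (memL L) [])) = true := by decide +kernel

theorem cov4 : T.cover 4 [(Nat.shiftLeft 1 0)] = true := by decide +kernel

theorem tl4 : Nat.beq (T.let 4).tt 0 = true := by decide +kernel

theorem ep4a : T.treePath [] (Nat.shiftLeft 1 0) 1 = true := by decide +kernel

theorem ep4b : T.treePath [] (Nat.shiftLeft 1 0) 1 = true := by decide +kernel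

theorem ep4c : band (lall (fun z => Nat.ble z 255) ([] ++ 5 :: [])) (concl F IV 197 0x60001 (encA ([] ++ 5 :: []) 0)) = true := by decide +kernel

theorem ep4d : band (Rule.ok (2 * 6) EX [] ⟨lapp [] [], [], 0, false⟩) (band (lall (memL L) []) (lall (memL L) [])) = true := by decide +kernel

theorem cov5 : T.cover 5 [(Nat.shiftLeft 1 0)] = true := by decide +kernel

theorem tl5 : Nat.beq (T.let 5).tt 0 = true := by decide +kernel

theorem ep5a : T.treePath [] (Nat.shiftLeft 1 0) 1 = true := by decide +kernel

theorem ep5b : T.treePath [] (Nat.shiftLeft 1 0) 1 = true := by decide +kernel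

theorem ep5c : band (lall (fun z => Nat.ble z 255) ([] ++ 6 :: [])) (concl F IV 197 0x62001 (encA ([] ++ 6 :: []) 0)) = true := by decide +kernel

theorem ep5d : band (Rule.ok (2 * 6) EX [] ⟨lapp [] [], [], 0, false⟩) (band (lall (memL L) []) (lall (memL L) [])) = true := by decide +kernel

theorem cov6 : T.cover 6 [(Nat.shiftLeft 1 0)] = true := by decide +kernel

theorem tl6 : Nat.beq (T.let 6).tt 0 = true := by decide +kernel

end Cfsg.Agent.Spor.U43aN1
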