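import Cfsg.Agent.Spor.Cert
import Cfsg.Agent.Spor.U43aN1.C0

set_option autoImplicit false
set_option maxRecDepth 100000000
set_option Elab.async false
set_option linter.unusedSectionVars false

namespace Cfsg.Agent.Spor.U43aN1

theorem hT : T.Ok 1 := T.ok_of 1 (show AllP (fun n => Net.okb 1 n = true) [n0, n1, n2, n3, n4, n5] from AllP.cons ok0 (AllP.cons ok1 (AllP.cons ok2 (AllP.cons ok3 (AllP.cons ok4 (AllP.cons ok5 (AllP.nil)))))))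

noncomputable def fP : ℕ → Equiv.Perm ℕ := T.fP gs

theorem hsq : ∀ j < 6, j < 6 → T.fP gs j * T.fP gs j = 1 :=
  Tab.sq (show AllP (fun z => evA T.τ [z, z] = 1) [1, 2, 3, 4, 5, 6] from AllP.cons (hT.one rel0) (AllP.cons (hT.one rel1) (AllP.cons (hT.one rel2) (AllP.cons (hT.one rel3) (AllP.cons (hT.one rel4) (AllP.cons (hT.one rel5) (AllP.nil))))))) 6 rfl

theorem hiv : IvOk (2 * 6) (atm 6 (T.fP gs)) := ivOk_atm hsq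

theorem pz1 : PZ T (atm 6 (T.fP gs)) EX 1 := PZ.of_atom (y := 2 * 0) (by decide +kernel) (atm_two_mul _ (by decide))
theorem pz2 : PZ T (atm 6 (T.fP gs)) EX 2 := PZ.of_atom (y := 2 * 1) (by decide +kernel) (atm_two_mul _ (by decide))
theorem pz3 : PZ T (atm 6 (T.fP gs)) EX 3 := PZ.of_atom (y := 2 * 2) (by decide +kernel) (atm_two_mul _ (by decide))
theorem pz4 : PZ T (atm 6 (T.fP gs)) EX 4 := PZ.of_atom (y := 2 * 3) (by decide +kernel) (atm_two_mul _ (by decide))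
theorem pz5 : PZ T (atm 6 (T.fP gs)) EX 5 := PZ.of_atom (y := 2 * 4) (by decide +kernel) (atm_two_mul _ (by decide))
theorem pz6 : PZ T (atm 6 (T.fP gs)) EX 6 := PZ.of_atom (y := 2 * 5) (by decide +kernel) (atm_two_mul _ (by decide))
theorem hPZ : AllP (PZ T (atm 6 (T.fP gs)) EX) L :=
  show AllP (PZ T (atm 6 (T.fP gs)) EX) [1, 2, 3, 4, 5, 6] from AllP.cons pz1 (AllP.cons pz2 (AllP.cons pz3 (AllP.cons pz4 (AllP.cons pz5 (AllP.cons pz6 (AllP.nil))))))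

theorem hrel : ∀ l ∈ RL, ev (atm 6 (T.fP gs)) l = 1 :=
  relAll_sound hiv (W := [[2, 3, 4, 3, 2, 3, 4, 5, 3, 5], [3, 4, 3, 4, 3, 4], [2, 3, 4, 3, 2, 4, 5, 3, 5, 4], [2, 3, 5, 3, 4, 2, 5, 2, 4, 5], [2, 4, 5, 2, 4, 5, 4, 2, 5, 4], [2, 3, 2, 5, 2, 4, 3, 2, 5, 4, 5, 3, 4, 5], [1, 3, 5, 3, 5], [1, 2, 1, 2], [1, 4, 1, 4], [2, 5, 2, 5, 2, 5], [1, 5, 1, 5], [1, 3, 1, 3], [2, 6, 2, 6, 2, 6], [5, 6, 5, 6, 5, 6], [4, 6, 4, 6, 4, 6], [3, 6, 3, 6, 3, 6], [3, 5, 6, 1, 6, 1, 6, 3, 5], [2, 3, 2, 3, 2, 3, 2, 3], [5, 2, 6, 4, 2, 6, 1, 6, 4, 2, 6, 4, 5, 1], [6, 1, 3, 4, 6, 3, 4, 1, 6, 2, 4, 5, 2, 3, 2], [6, 1, 2, 5, 6, 2, 5, 1, 6, 4, 3, 5, 2, 4, 3], [1]]) (rules := [⟨[2, 3, 4, 3, 2, 3, 4, 5, 3, 5], [], 0, true⟩, ⟨[3, 4, 3, 4, 3, 4], [], 1, true⟩, ⟨[2, 3, 4, 3, 2, 4, 5, 3, 5, 4], [], 2, true⟩, ⟨[2, 3, 5, 3, 4, 2, 5, 2, 4, 5], [], 3, true⟩,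 ⟨[2, 4, 5, 2, 4, 5, 4, 2, 5, 4], [], 4, true⟩, ⟨[2, 3, 2, 5, 2, 4, 3, 2, 5, 4, 5, 3, 4, 5], [], 5, true⟩, ⟨[1, 3, 5, 3, 5], [], 6, true⟩, ⟨[1, 2, 1, 2], [], 7, true⟩, ⟨[1, 4, 1, 4], [], 8, true⟩, ⟨[2, 5, 2, 5, 2, 5], [], 9, true⟩, ⟨[1, 5, 1, 5], [], 10, true⟩, ⟨[1, 3, 1, 3], [], 11, true⟩, ⟨[2, 6, 2, 6, 2, 6], [], 12, true⟩, ⟨[5, 6, 5, 6, 5, 6], [], 13, true⟩, ⟨[4, 6, 4, 6, 4, 6], [], 14, true⟩, ⟨[3, 6, 3, 6, 3, 6], [], 15, true⟩, ⟨[3, 5, 6, 1, 6, 1, 6, 3, 5], [], 16, true⟩, ⟨[2, 3, 2, 3, 2, 3, 2, 3], [], 17, true⟩, ⟨[5, 2, 6, 4, 2, 6, 1, 6, 4, 2, 6, 4, 5, 1], [], 18, true⟩, ⟨[6, 1, 3, 4, 6, 3, 4, 1, 6, 2, 4, 5, 2, 3, 2], [], 19, true⟩, ⟨[6, 1, 2, 5, 6, 2, 5, 1, 6, 4, 3, 5, 2, 4, 3], [], 20, true⟩, ⟨[1], [], 21, true⟩]) hPZ (AllP.cons (hT.one rel6) (AllP.cons (hT.one rel7) (AllP.cons (hT.one rel8) (AllP.cons (hT.one rel9)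 (AllP.cons (hT.one rel10) (AllP.cons (hT.one rel11) (AllP.cons (hT.one rel12) (AllP.cons (hT.one rel13) (AllP.cons (hT.one rel14) (AllP.cons (hT.one rel15) (AllP.cons (hT.one rel16) (AllP.cons (hT.one rel17) (AllP.cons (hT.one rel18) (AllP.cons (hT.one rel19) (AllP.cons (hT.one rel20) (AllP.cons (hT.one rel21) (AllP.cons (hT.one rel22) (AllP.cons (hT.one rel23) (AllP.cons (hT.one rel24) (AllP.cons (hT.one rel25) (AllP.cons (hT.one rel26) (AllP.cons (hT.one rel27) (AllP.nil))))))))))))))))))))))) (by decide +kernel)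

theorem hst : StepsOk F IV RT base 65 197 := (steps_sound' st0)

section
variable {G : Type} [Group G] {a : ℕ → G} (hi : IvOk (2 * 6) a) (hR : ∀ r ∈ RL, ev a r = 1)
  {H : Subgroup G} (hb : ∀ z ∈ base, letV a EX z ∈ H)
include hi hR hb

theorem let1 : LetOk H (letV a EX) T L 1 :=
  LetOk.of' hT tl1 cov1 (AllP.cons (Just.epi hT hi ep0a ep0b (seq_mem hi hR rfl hivk hrt H hb hdefs hst ep0c) ep0d) (AllP.nil))
theorem let2 : LetOk H (letV a EX) T L 2 :=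
  LetOk.of' hT tl2 cov2 (AllP.cons (Just.epi hT hi ep1a ep1b (seq_mem hi hR rfl hivk hrt H hb hdefs hst ep1c) ep1d) (AllP.nil))
theorem let3 : LetOk H (letV a EX) T L 3 :=
  LetOk.of' hT tl3 cov3 (AllP.cons (Just.epi hT hi ep2a ep2b (seq_mem hi hR rfl hivk hrt H hb hdefs hst ep2c) ep2d) (AllP.nil))
theorem let4 : LetOk H (letV a EX) T L 4 :=
  LetOk.of' hT tl4 cov4 (AllP.cons (Just.epi hT hi ep3a ep3b (seq_mem hi hR rfl hivk hrt H hb hdefs hst ep3c) ep3d) (AllP.nil))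
theorem let5 : LetOk H (letV a EX) T L 5 :=
  LetOk.of' hT tl5 cov5 (AllP.cons (Just.epi hT hi ep4a ep4b (seq_mem hi hR rfl hivk hrt H hb hdefs hst ep4c) ep4d) (AllP.nil))
theorem let6 : LetOk H (letV a EX) T L 6 :=
  LetOk.of' hT tl6 cov6 (AllP.cons (Just.epi hT hi ep5a ep5b (seq_mem hi hR rfl hivk hrt H hb hdefs hst ep5c) ep5d) (AllP.nil))
theorem hlet : AllP (LetOk H (letV a EX) T L) L :=
  show AllP (LetOk H (letV a EX) T L) [1, 2, 3, 4, 5, 6] from AllP.cons (let1 hi hR hb) (AllP.cons (let2 hi hR hb) (AllP.cons (let3 hi hR hb) (AllP.cons (let4 hi hR hb) (AllP.cons (let5 hi hR hb) (AllP.cons (let6 hi hR hb) (AllP.nil))))))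
end

theorem cert : Cert 6 6 RL BW fP 1 :=
  Cert.of hT ⟨hsq, hrel⟩ hPZ (fun _ _ _ hi hR _ hb => hlet hi hR hb) hcov hg (by decide +kernel)

end Cfsg.Agent.Spor.U43aN1
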